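import Groth.Agent.L05.SectionFibre.Main
import Groth.Agent.L05.EulerDiv.Fibre
import Mathlib.AlgebraicGeometry.ValuativeCriterion

/-!
A rational point forces the fields of constants through it to be the residue field.
-/

set_option autoImplicit false
set_option backward.isDefEq.respectTransparency false
set_option linter.style.haveILetI false
set_option linter.unusedSectionVars false
universe u

open CategoryTheory CategoryTheory.Limits AlgebraicGeometry TopologicalSpace

noncomputable section

namespace Groth.L05.SectionFibre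

open Groth.L05.InterPair

/-- A field of functions on a closed subscheme with a rational point consists of scalars. -/
theorem surjective_scalars {R : Type u} [CommRing R] [IsLocalRing R] {X : Over (Spec (CommRingCat.of R))}
    {Y : Scheme.{u}} (ι : Y ⟶ X.left) [IsClosedImmersion ι] (y : Y)
    (hres : Function.Surjective ((X.left.residue (ι y)).hom.comp (Models.stalkHom R X (ι y))))
    (hF : IsField Γ(Y, ⊤)) : Function.Surjective (Coh.toGlobal (ι ≫ X.hom)) := by
  letI := hF.toField
  let ev : Γ(Y, ⊤) →+* Y.residueField y := (Y.residue y).hom.comp (Y.presheaf.germ ⊤ y trivial).hom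
  intro a
  obtain ⟨w, hw⟩ := ι.stalkMap_surjective y (Y.presheaf.germ ⊤ y trivial a)
  obtain ⟨r, hr⟩ := hres (X.left.residue (ι y) w)
  refine ⟨r, ev.injective ?_⟩
  have h1 : Y.presheaf.germ ⊤ y trivial (Coh.toGlobal (ι ≫ X.hom) r) =
      ι.stalkMap y (Models.stalkHom R X (ι y) r) :=
    (Scheme.Hom.germ_stalkMap_apply ι ⊤ y trivial (Coh.toGlobal X.hom r)).symm
  show Y.residue y (Y.presheaf.germ ⊤ y trivial (Coh.toGlobal (ι ≫ X.hom) r)) =
    Y.residue y (Y.presheaf.germ ⊤ y trivial a)
  rw [h1, ← hw]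
  exact (congr($(Scheme.residue_residueFieldMap ι y) (Models.stalkHom R X (ι y) r))).symm.trans
    ((congrArg (ι.residueFieldMap y) hr).trans (congr($(Scheme.residue_residueFieldMap ι y) w)))

/-- Global functions which are all scalars. -/
theorem h0_eq_one_of_surjective (k : Type u) [Field k] {C : Scheme.{u}} [Nonempty C]
    [C.Over (Spec (CommRingCat.of k))]
    (hb : Function.Surjective (Coh.toGlobal (C ↘ Spec (CommRingCat.of k)))) :
    Module.finrank k (Coh.HH C (Coh.structureModule C) 0) = 1 := by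
  classical
  let hT : IsTerminal (⊤ : TopologicalSpace.Opens C) :=
    IsTerminal.ofUniqueHom (fun U => homOfLE le_top) (fun _ _ => rfl)
  let F := Coh.toAb (Coh.structureModule C)
  let e : Coh.HH C (Coh.structureModule C) 0 ≃+ Coh.Γtop C := Sheaf.H.equiv₀ F hT
  have he : ∀ (c : k) x, e (c • x) = Coh.toGlobal (C ↘ Spec (CommRingCat.of k)) c * e x := fun c x => by
    show Sheaf.H.equiv₀ F hT (Sheaf.H.map (Coh.smulAb (Coh.structureModule C) _) 0 x) = _
    rw [← Sheaf.H.equiv₀_naturality]
    refine (Coh.smulAb_app (Coh.structureModule C) _ (Opposite.op ⊤) _).trans ?_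
    show Coh.resTop C (Opposite.op ⊤) _ * _ = _
    congr 1
    simp [Coh.resTop]
  haveI : Nontrivial (Coh.Γtop C) :=
    haveI : Nonempty (⊤ : C.Opens) := ⟨⟨Classical.arbitrary C, trivial⟩⟩
    inferInstanceAs (Nontrivial Γ(C, ⊤))
  refine finrank_eq_one_iff'.2 ⟨e.symm 1, fun h0 => ?_, fun w => ?_⟩
  · have h1 := congrArg e h0
    rw [AddEquiv.apply_symm_apply, map_zero] at h1
    exact one_ne_zero h1
  · obtain ⟨c, hc⟩ := hb (e w)
    refine ⟨c, e.injective ?_⟩
    rw [he, AddEquiv.apply_symm_apply, mul_one]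
    exact hc

variable {R : Type u} [CommRing R] [IsDomain R] [IsDiscreteValuationRing R]
  {X : Over (Spec (CommRingCat.of R))} [IsProper X.hom] [IsLocallyNoetherian X.left]

theorem wdeg_eq_one (Γ : ArSurf.VertComp R X) (y : Γ.curve.left)
    (hres : Function.Surjective ((X.left.residue (Γ.ι y)).hom.comp (Models.stalkHom R X (Γ.ι y))))
    (hF : IsField Γ(Γ.curve.left, ⊤)) : Models.wdeg R X Γ = 1 := by
  haveI : Nonempty Γ.curve.left := ⟨y⟩
  refine h0_eq_one_of_surjective (IsLocalRing.ResidueField R) fun a => ?_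
  obtain ⟨r, hr⟩ := surjective_scalars Γ.ι y hres hF a
  refine ⟨IsLocalRing.residue R r, Eq.trans ?_ hr⟩
  rw [Γ.w]
  simp only [Coh.toGlobal, Scheme.Hom.comp_appTop, CommRingCat.hom_comp, RingHom.comp_apply]
  exact congrArg (fun t => Γ.curve.hom.appTop t)
    congr($(Scheme.ΓSpecIso_inv_naturality (CommRingCat.ofHom (IsLocalRing.residue R))) r)

theorem lengthH_quotMod_eq_one (D : X.left.IdealSheafData) (y : D.subscheme)
    (hres : Function.Surjective ((X.left.residue (D.subschemeι y)).hom.comp
      (Models.stalkHom R X (D.subschemeι y))))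
    (hF : IsField Γ(D.subscheme, ⊤)) : Models.lengthH R X (ClSub.quotMod D) 0 = 1 := by
  letI : X.left.Over (Spec (CommRingCat.of R)) := ⟨X.hom⟩
  let Y := D.subscheme
  letI : Y.Over (Spec (CommRingCat.of R)) := ⟨D.subschemeι ≫ X.hom⟩
  haveI : IsLocallyNoetherian Y := LocallyOfFiniteType.isLocallyNoetherian D.subschemeι
  haveI : X.left.IsSeparated := ⟨by rw [← terminal.comp_from X.hom]; infer_instance⟩
  obtain ⟨φ⟩ := exists_HH_push (A := R) (W := X.left) D.subschemeι (Coh.structureModule Y)
    (Groth.L16.CohClosedPush.isCoh_structure (X := Y)).1 rfl 0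
  let g := Coh.toGlobal (D.subschemeι ≫ X.hom)
  have hg : Function.Surjective g := surjective_scalars D.subschemeι y hres hF
  letI : Algebra R Γ(Y, ⊤) := g.toAlgebra
  letI : Field Γ(Y, ⊤) := hF.toField
  let hT : IsTerminal (⊤ : TopologicalSpace.Opens Y) :=
    IsTerminal.ofUniqueHom (fun U => homOfLE le_top) (fun _ _ => rfl)
  let F := Coh.toAb (Coh.structureModule Y)
  let e : Coh.HH Y (Coh.structureModule Y) 0 ≃+ Γ(Y, ⊤) := Sheaf.H.equiv₀ F hT
  have he : ∀ (c : R) x, e (c • x) = c • e x := fun c x => by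
    show _ = (show Γ(Y, ⊤) from g c) * e x
    show Sheaf.H.equiv₀ F hT (Sheaf.H.map (Coh.smulAb (Coh.structureModule Y) _) 0 x) = _
    rw [← Sheaf.H.equiv₀_naturality]
    refine (Coh.smulAb_app (Coh.structureModule Y) _ (Opposite.op ⊤) _).trans ?_
    show Coh.resTop Y (Opposite.op ⊤) _ * _ = _
    congr 1
    simp [Coh.resTop, g]
    rfl
  let el : Coh.HH Y (Coh.structureModule Y) 0 ≃ₗ[R] Γ(Y, ⊤) := { e with map_smul' := he }
  have h : Module.length R (Coh.HH X.left (ClSub.quotMod D) 0) = 1 := by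
    refine φ.length_eq.symm.trans (el.length_eq.trans ?_)
    rw [Module.length_eq_of_surjective (S := R) (R := Γ(Y, ⊤)) (M := Γ(Y, ⊤)) hg, Module.length_eq_finrank,
      Module.finrank_self, Nat.cast_one]
  show (Module.length R (Coh.HH X.left (ClSub.quotMod D) 0)).toNat = 1
  rw [h]
  rfl

/-- A rational point of the generic fibre extends to a section. -/
theorem exists_section {C : Scheme.{u}} {f : C ⟶ Spec (CommRingCat.of (FractionRing R))} (g : C ⟶ X.left)
    (hg : g ≫ X.hom = f ≫ Spec.map (CommRingCat.ofHom (algebraMap R (FractionRing R))))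
    (s : Spec (CommRingCat.of (FractionRing R)) ⟶ C) (hs : s ≫ f = 𝟙 _) :
    ∃ σ : Spec (CommRingCat.of R) ⟶ X.left, σ ≫ X.hom = 𝟙 _ := by
  have hex : ValuativeCriterion.Existence X.hom :=
    ((UniversallyClosed.eq_valuativeCriterion ▸ (inferInstance : UniversallyClosed X.hom) :
      (ValuativeCriterion.Existence ⊓ @QuasiCompact) X.hom)).1
  let S : ValuativeCommSq X.hom :=
    ⟨R, FractionRing R, (s ≫ g : Spec (CommRingCat.of (FractionRing R)) ⟶ X.left), 𝟙 _,
      ⟨by rw [Category.assoc, hg, ← Category.assoc, hs, Category.id_comp, Category.comp_id]⟩⟩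
  haveI := hex S
  exact ⟨S.commSq.lift, S.commSq.fac_right⟩

end Groth.L05.SectionFibre
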