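import Groth.Agent.L05.InterPair.Form
import Groth.Agent.L01.Regular

/-!
A section of a regular model meets the closed fibre in a smooth rational point.
-/

set_option autoImplicit false
set_option backward.isDefEq.respectTransparency false
set_option linter.style.haveILetI false
set_option linter.unusedSectionVars false
universe u

open CategoryTheory CategoryTheory.Limits AlgebraicGeometry TopologicalSpace

noncomputable section

namespace Groth.L05.SectionFibre

open Groth.L05.FibreDecomp Groth.L22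

variable {R : Type u} [CommRing R] [IsDomain R] [IsDiscreteValuationRing R]
  {X : Over (Spec (CommRingCat.of R))} (σ : Spec (CommRingCat.of R) ⟶ X.left) (hσ : σ ≫ X.hom = 𝟙 _)

local notation "x₀" => σ.base (IsLocalRing.closedPoint R)

include hσ

/-- The section retracts the structure map at the closed point. -/
theorem retract (a : R) :
    (Scheme.stalkClosedPointTo σ).hom (Models.stalkHom R X x₀ a) = a := by
  have h := congr($(Scheme.germ_stalkClosedPointTo σ ⊤
    (show σ (IsLocalRing.closedPoint (CommRingCat.of R)) ∈ (⊤ : X.left.Opens) from trivial))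
    (Coh.toGlobal X.hom a))
  refine h.trans ?_
  show (Scheme.ΓSpecIso (CommRingCat.of R)).hom
    ((Spec (CommRingCat.of R)).presheaf.map _ (σ.app ⊤ (X.hom.appTop ((Scheme.ΓSpecIso (CommRingCat.of R)).inv a)))) = a
  have hc : σ.app ⊤ (X.hom.appTop ((Scheme.ΓSpecIso (CommRingCat.of R)).inv a)) =
      (Scheme.ΓSpecIso (CommRingCat.of R)).inv a := by
    show (σ ≫ X.hom).appTop _ = _
    rw [hσ]; rfl
  rw [hc]
  simp
  try rfl

theorem surjective_residue :
    Function.Surjective ((X.left.residue x₀).hom.comp (Models.stalkHom R X x₀)) := by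
  intro y
  haveI : IsLocalHom (Scheme.stalkClosedPointTo σ).hom := inferInstance
  let ψ : X.left.residueField x₀ →+* IsLocalRing.ResidueField R :=
    IsLocalRing.ResidueField.map (Scheme.stalkClosedPointTo σ).hom
  obtain ⟨r, hr⟩ := IsLocalRing.residue_surjective (ψ y)
  refine ⟨r, ψ.injective ?_⟩
  rw [← hr]
  show IsLocalRing.residue R ((Scheme.stalkClosedPointTo σ).hom (Models.stalkHom R X x₀ r)) = _
  rw [retract σ hσ]

theorem mem_specialFibreSet_point : x₀ ∈ Models.specialFibreSet R X := by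
  show X.hom.base (σ.base _) = _
  rw [← Scheme.Hom.comp_apply, hσ]
  rfl

theorem notMem_sq {ϖ : R} (hϖ : Irreducible ϖ) :
    Models.stalkHom R X x₀ ϖ ∈ IsLocalRing.maximalIdeal (X.left.presheaf.stalk x₀) ∧
      Models.stalkHom R X x₀ ϖ ∉ IsLocalRing.maximalIdeal (X.left.presheaf.stalk x₀) ^ 2 := by
  have hs := retract σ hσ ϖ
  refine ⟨fun hu => hϖ.not_isUnit ?_, fun h2 => ?_⟩
  · rw [← hs]; exact hu.map _
  · have h : ϖ ∈ IsLocalRing.maximalIdeal R ^ 2 := by
      rw [← hs]
      refine Ideal.pow_right_mono ?_ 2 (Ideal.map_pow (Scheme.stalkClosedPointTo σ).hom _ 2 ▸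
        Ideal.mem_map_of_mem _ h2)
      exact IsLocalRing.map_maximalIdeal_le _
    rw [hϖ.maximalIdeal_eq, Ideal.span_singleton_pow, Ideal.mem_span_singleton'] at h
    obtain ⟨c, hc⟩ := h
    refine hϖ.not_isUnit (IsUnit.of_mul_eq_one c ?_)
    exact mul_right_cancel₀ hϖ.ne_zero (by linear_combination hc)

theorem isRegular_fibre [IsRegularLocalRing (X.left.presheaf.stalk x₀)] :
    IsRegularLocalRing (X.left.presheaf.stalk x₀ ⧸
      Ideal.map (Models.stalkHom R X x₀) (IsLocalRing.maximalIdeal R)) := by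
  obtain ⟨ϖ, hϖ⟩ := IsDiscreteValuationRing.exists_irreducible R
  obtain ⟨h1, h2⟩ := notMem_sq σ hσ hϖ
  rw [hϖ.maximalIdeal_eq, Ideal.map_span, Set.image_singleton]
  exact (Groth.L01.regular_quotient_of_notMem_sq h1 h2).1

variable [IsLocallyNoetherian X.left] [Flat X.hom] (hreg : Models.IsRegularScheme X.left) {n : ℕ}
  {Γ : Fin n → ArSurf.VertComp R X} (hΓ : Models.IsComponentList R X Γ)

include hreg hΓ

/-- Exactly one component passes through the point of a section, with multiplicity one. -/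
theorem component :
    (∃! i : Fin n, x₀ ∈ Set.range ((Γ i).ι.base : (Γ i).curve.left → X.left)) ∧
      ∀ i : Fin n, x₀ ∈ Set.range ((Γ i).ι.base : (Γ i).curve.left → X.left) →
        Models.mult R X (Γ i) = 1 := by
  classical
  obtain ⟨ϖ, hϖ⟩ := IsDiscreteValuationRing.exists_irreducible R
  obtain ⟨h1, h2⟩ := notMem_sq σ hσ hϖ
  obtain ⟨_, ⟨W, hW, rfl⟩, hxW, -⟩ :=
    X.left.isBasis_affineOpens.exists_subset_of_mem_open (Set.mem_univ x₀) isOpen_univ
  let U : X.left.affineOpens := ⟨W, hW⟩
  let φ := (X.left.presheaf.germ U.1 x₀ hxW).hom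
  let m := IsLocalRing.maximalIdeal (X.left.presheaf.stalk x₀)
  let J : Fin n → Ideal (X.left.presheaf.stalk x₀) := fun i => ((Γ i).ι.ker.ideal U).map φ
  have hmax : ∀ i, x₀ ∈ Set.range ((Γ i).ι.base : (Γ i).curve.left → X.left) → J i ≤ m := fun i hi => by
    rw [← support_ker, CartierDecomp.mem_support_iff (U := U) hxW] at hi
    letI : Algebra Γ(X.left, U.1) (X.left.presheaf.stalk x₀) := φ.toAlgebra
    haveI : IsLocalization.AtPrime (X.left.presheaf.stalk x₀) (U.2.primeIdealOf ⟨x₀, hxW⟩).asIdeal :=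
      U.2.isLocalization_stalk ⟨x₀, hxW⟩
    refine (Ideal.map_mono hi).trans (le_of_eq ?_)
    exact IsLocalization.AtPrime.map_eq_maximalIdeal _ _
  have hprod : Ideal.span {Models.stalkHom R X x₀ ϖ} = ∏ i, J i ^ Models.mult R X (Γ i) := by
    have h := stalkIdeal_specialFibreIdeal (X := X) U x₀ hxW
    rw [Div.stalkIdeal, specialFibreIdeal_eq_prod hreg hΓ, ideal_prod, hϖ.maximalIdeal_eq, Ideal.map_span,
      Set.image_singleton] at h
    rw [← h]
    refine (map_prod (Ideal.mapHom φ) _ _).trans (Finset.prod_congr rfl fun i _ => ?_)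
    show Ideal.map _ _ = _
    rw [Scheme.IdealSheafData.ideal_pow, Pi.pow_apply, Ideal.map_pow]
  have hno : ∀ s : Finset (Fin n), (∀ i ∈ s, x₀ ∈ Set.range ((Γ i).ι.base : (Γ i).curve.left → X.left)) →
      ∑ i ∈ s, Models.mult R X (Γ i) ≤ 1 := by
    intro s hs
    by_contra hlt
    refine h2 ?_
    have hmem : Models.stalkHom R X x₀ ϖ ∈ ∏ i, J i ^ Models.mult R X (Γ i) :=
      hprod ▸ Ideal.mem_span_singleton_self _
    rw [← Finset.prod_mul_prod_compl s] at hmem
    have hle : ∏ i ∈ s, J i ^ Models.mult R X (Γ i) ≤ m ^ 2 := by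
      refine le_trans ?_ (Ideal.pow_le_pow_right (show 2 ≤ ∑ i ∈ s, Models.mult R X (Γ i) by omega))
      rw [← Finset.prod_pow_eq_pow_sum]
      exact Finset.prod_le_prod' fun i hi => Ideal.pow_right_mono (hmax i (hs i hi)) _
    exact hle (Ideal.mul_le_left hmem)
  have hone : ∀ i, x₀ ∈ Set.range ((Γ i).ι.base : (Γ i).curve.left → X.left) →
      Models.mult R X (Γ i) = 1 := fun i hi => by
    have h := hno {i} (by simpa using hi)
    have := Groth.L05.InterPair.mult_pos hreg hΓ i
    simp at h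
    omega
  refine ⟨?_, hone⟩
  obtain ⟨i, hi⟩ := exists_component hΓ (mem_specialFibreSet_point σ hσ)
  refine ⟨i, hi, fun j hj => ?_⟩
  by_contra hne
  have h := hno {j, i} fun a ha => by
    rcases Finset.mem_insert.1 ha with rfl | ha
    · exact hj
    · rw [Finset.mem_singleton.1 ha]; exact hi
  rw [Finset.sum_pair hne, hone i hi, hone j hj] at h
  omega

end Groth.L05.SectionFibre
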